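import Mathlib.Combinatorics.SimpleGraph.StronglyRegular
import Mathlib.GroupTheory.GroupAction.Quotient
import Mathlib.GroupTheory.GroupAction.Basic

/-!
The graph of an orbital of a rank-three permutation group with two different subdegrees is strongly regular.
-/

set_option autoImplicit false

namespace Cfsg.Agent.RankThreeUniq

variable {Ω : Type*} (G : Subgroup (Equiv.Perm Ω)) (a b : Ω)

/-- The orbital of a pair. -/
def Rel (x y : Ω) : Prop := ∃ g : G, g • a = x ∧ g • b = y

theorem rel_smul {x y : Ω} (h : G) (hr : Rel G a b x y) : Rel G a b (h • x) (h • y) := by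
  obtain ⟨g, rfl, rfl⟩ := hr
  exact ⟨h * g, mul_smul _ _ _, mul_smul _ _ _⟩

theorem rel_base_iff (y : Ω) : Rel G a b a y ↔ y ∈ MulAction.orbit (MulAction.stabilizer G a) b := by
  constructor
  · rintro ⟨g, hg, rfl⟩
    exact ⟨⟨g, hg⟩, rfl⟩
  · rintro ⟨⟨g, hg⟩, rfl⟩
    exact ⟨g, hg, rfl⟩

variable [Fintype Ω] [MulAction.IsPretransitive G Ω]

theorem ncard_rel (x : Ω) :
    {y | Rel G a b x y}.ncard = (MulAction.orbit (MulAction.stabilizer G a) b).ncard := by
  obtain ⟨g, rfl⟩ := MulAction.exists_smul_eq G a x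
  rw [← Set.ncard_image_of_injective (MulAction.orbit (MulAction.stabilizer G a) b) (MulAction.injective g)]
  congr 1
  ext y
  constructor
  · intro h
    refine ⟨g⁻¹ • y, (rel_base_iff G a b _).1 ?_, smul_inv_smul g y⟩
    have := rel_smul G a b g⁻¹ h
    rwa [inv_smul_smul] at this
  · rintro ⟨z, hz, rfl⟩
    exact rel_smul G a b g ((rel_base_iff G a b z).2 hz)

theorem ncard_pairs :
    {p : Ω × Ω | Rel G a b p.1 p.2}.ncard =
      Fintype.card Ω * (MulAction.orbit (MulAction.stabilizer G a) b).ncard := by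
  classical
  have h : {p : Ω × Ω | Rel G a b p.1 p.2} = ↑((Finset.univ : Finset Ω).biUnion fun x =>
      (Finset.univ.filter fun y => Rel G a b x y).image fun y => (x, y)) := by
    ext ⟨x, y⟩
    simp
  rw [h, Set.ncard_coe_finset, Finset.card_biUnion]
  · rw [Finset.sum_congr rfl (fun x _ => show _ = (MulAction.orbit (MulAction.stabilizer G a) b).ncard from ?_),
      Finset.sum_const, Finset.card_univ, smul_eq_mul]
    rw [Finset.card_image_of_injective _ (fun y z h => (Prod.mk.inj h).2), ← ncard_rel G a b x,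
      Set.ncard_eq_toFinset_card', Set.toFinset_setOf]
  · intro x _ y _ hxy
    rw [Function.onFun, Finset.disjoint_left]
    intro p hp hq
    simp only [Finset.mem_image] at hp hq
    obtain ⟨_, -, rfl⟩ := hp
    obtain ⟨_, -, e⟩ := hq
    exact hxy (Prod.mk.inj e).1.symm

variable {G a b}

/-- The three relations exhaust the pairs. -/
theorem trichotomy {c : Ω} {k l : ℕ} (hb : (MulAction.orbit (MulAction.stabilizer G a) b).ncard = k)
    (hc : (MulAction.orbit (MulAction.stabilizer G a) c).ncard = l) (hk : 1 < k) (hl : 1 < l) (hkl : k ≠ l)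
    (hsum : 1 + k + l = Fintype.card Ω) (x y : Ω) : y = x ∨ Rel G a b x y ∨ Rel G a c x y := by
  obtain ⟨g, rfl⟩ := MulAction.exists_smul_eq G a x
  set O₁ := MulAction.orbit (MulAction.stabilizer G a) b
  set O₂ := MulAction.orbit (MulAction.stabilizer G a) c
  have hfix : MulAction.orbit (MulAction.stabilizer G a) a = {a} := by
    refine Set.eq_singleton_iff_unique_mem.2 ⟨MulAction.mem_orbit_self a, ?_⟩
    rintro _ ⟨h, rfl⟩
    exact h.2
  have ha1 : a ∉ O₁ := fun h => by
    have := congrArg Set.ncard ((MulAction.orbit_eq_iff.2 h).symm.trans hfix)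
    rw [hb, Set.ncard_singleton] at this; omega
  have ha2 : a ∉ O₂ := fun h => by
    have := congrArg Set.ncard ((MulAction.orbit_eq_iff.2 h).symm.trans hfix)
    rw [hc, Set.ncard_singleton] at this; omega
  have hdis : Disjoint O₁ O₂ := Set.disjoint_left.2 fun z h1 h2 => hkl <| by
    rw [← hb, ← hc]
    exact congrArg Set.ncard ((MulAction.orbit_eq_iff.2 h1).symm.trans (MulAction.orbit_eq_iff.2 h2))
  have huniv : insert a (O₁ ∪ O₂) = Set.univ := by
    refine Set.eq_of_subset_of_ncard_le (Set.subset_univ _) ?_ (Set.toFinite _)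
    rw [Set.ncard_univ, Set.ncard_insert_of_notMem (by simp [ha1, ha2]) (Set.toFinite _),
      Set.ncard_union_eq hdis (Set.toFinite _) (Set.toFinite _), hb, hc, Nat.card_eq_fintype_card]
    omega
  have hz : g⁻¹ • y ∈ insert a (O₁ ∪ O₂) := huniv ▸ Set.mem_univ _
  rcases hz with h | h | h
  · exact Or.inl (by rw [← h, smul_inv_smul])
  · exact Or.inr (Or.inl (by simpa using rel_smul G a b g ((rel_base_iff G a b _).2 h)))
  · exact Or.inr (Or.inr (by simpa using rel_smul G a c g ((rel_base_iff G a c _).2 h)))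

theorem rel_symm {c : Ω} {k l : ℕ} (hb : (MulAction.orbit (MulAction.stabilizer G a) b).ncard = k)
    (hc : (MulAction.orbit (MulAction.stabilizer G a) c).ncard = l) (hk : 1 < k) (hl : 1 < l) (hkl : k ≠ l)
    (hsum : 1 + k + l = Fintype.card Ω) {x y : Ω} (h : Rel G a b x y) : Rel G a b y x := by
  rcases trichotomy hb hc hk hl hkl hsum b a with e | e | e
  · exfalso
    subst e
    have : (MulAction.orbit (MulAction.stabilizer G a) a).ncard = 1 := by
      rw [Set.ncard_eq_one]
      refine ⟨a, Set.eq_singleton_iff_unique_mem.2 ⟨MulAction.mem_orbit_self a, ?_⟩⟩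
      rintro _ ⟨h, rfl⟩
      exact h.2
    omega
  · obtain ⟨g, rfl, rfl⟩ := h
    exact rel_smul G a b g e
  · exfalso
    have hsub : Prod.swap '' {p : Ω × Ω | Rel G a b p.1 p.2} = {p : Ω × Ω | Rel G a c p.1 p.2} := by
      ext ⟨u, v⟩
      simp only [Set.mem_image, Set.mem_setOf_eq, Prod.exists, Prod.swap_prod_mk, Prod.mk.injEq]
      constructor
      · rintro ⟨p, q, ⟨g, rfl, rfl⟩, rfl, rfl⟩
        exact rel_smul G a c g e
      · rintro ⟨g, rfl, rfl⟩
        obtain ⟨s, hs1, hs2⟩ := e
        refine ⟨g • c, g • a, ⟨g * s⁻¹, ?_, ?_⟩, rfl, rfl⟩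
        · rw [mul_smul, ← hs2, inv_smul_smul]
        · rw [mul_smul, ← hs1, inv_smul_smul]
    have := congrArg Set.ncard hsub
    rw [Set.ncard_image_of_injective _ Prod.swap_injective, ncard_pairs, ncard_pairs, hb, hc] at this
    have hn : 0 < Fintype.card Ω := by omega
    exact hkl (Nat.eq_of_mul_eq_mul_left hn this)

/-- The orbital graph. -/
def graph (G : Subgroup (Equiv.Perm Ω)) (a b : Ω) : SimpleGraph Ω := SimpleGraph.fromRel (Rel G a b)

theorem adj_iff {c : Ω} {k l : ℕ} (hb : (MulAction.orbit (MulAction.stabilizer G a) b).ncard = k)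
    (hc : (MulAction.orbit (MulAction.stabilizer G a) c).ncard = l) (hk : 1 < k) (hl : 1 < l) (hkl : k ≠ l)
    (hsum : 1 + k + l = Fintype.card Ω) {x y : Ω} : (graph G a b).Adj x y ↔ Rel G a b x y := by
  rw [graph, SimpleGraph.fromRel_adj]
  refine ⟨fun h => h.2.elim id (rel_symm hb hc hk hl hkl hsum), fun h => ⟨?_, Or.inl h⟩⟩
  rintro rfl
  obtain ⟨g, h1, h2⟩ := h
  have : b = a := MulAction.injective g (h2.trans h1.symm)
  subst this
  have : (MulAction.orbit (MulAction.stabilizer G b) b).ncard = 1 := by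
    rw [Set.ncard_eq_one]
    refine ⟨b, Set.eq_singleton_iff_unique_mem.2 ⟨MulAction.mem_orbit_self b, ?_⟩⟩
    rintro _ ⟨h, rfl⟩
    exact h.2
  omega

theorem adj_smul {x y : Ω} (h : G) : (graph G a b).Adj (h • x) (h • y) ↔ (graph G a b).Adj x y := by
  have key : ∀ (h : G) (x y : Ω), (graph G a b).Adj x y → (graph G a b).Adj (h • x) (h • y) := by
    intro h x y hxy
    rw [graph, SimpleGraph.fromRel_adj] at hxy ⊢
    exact ⟨fun e => hxy.1 (MulAction.injective h e), hxy.2.imp (rel_smul G a b h) (rel_smul G a b h)⟩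
  exact ⟨fun e => by simpa using key h⁻¹ _ _ e, key h x y⟩

theorem isSRG [DecidableEq Ω] {c : Ω} {k l : ℕ} (hb : (MulAction.orbit (MulAction.stabilizer G a) b).ncard = k)
    (hc : (MulAction.orbit (MulAction.stabilizer G a) c).ncard = l) (hk : 1 < k) (hl : 1 < l) (hkl : k ≠ l)
    (hsum : 1 + k + l = Fintype.card Ω) [DecidableRel (graph G a b).Adj] :
    (graph G a b).IsSRGWith (Fintype.card Ω) k (Fintype.card ((graph G a b).commonNeighbors a b))
      (Fintype.card ((graph G a b).commonNeighbors a c)) := by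
  have hmove : ∀ (g : G) (u v : Ω), Fintype.card ((graph G a b).commonNeighbors (g • u) (g • v)) =
      Fintype.card ((graph G a b).commonNeighbors u v) := by
    intro g u v
    refine Fintype.card_congr
      { toFun := fun z => ⟨g⁻¹ • (z : Ω), ?_⟩
        invFun := fun z => ⟨g • (z : Ω), ?_⟩
        left_inv := fun z => Subtype.ext (smul_inv_smul g _)
        right_inv := fun z => Subtype.ext (inv_smul_smul g _) }
    · obtain ⟨h1, h2⟩ := z.2
      exact ⟨(adj_smul g).1 (by rw [smul_inv_smul]; exact h1), (adj_smul g).1 (by rw [smul_inv_smul]; exact h2)⟩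
    · obtain ⟨h1, h2⟩ := z.2
      exact ⟨(adj_smul g).2 h1, (adj_smul g).2 h2⟩
  refine ⟨rfl, fun x => ?_, fun x y h => ?_, fun x y hne h => ?_⟩
  · classical
    rw [← hb, ← ncard_rel G a b x, SimpleGraph.degree, Set.ncard_eq_toFinset_card']
    congr 1
    ext y
    rw [SimpleGraph.mem_neighborFinset, Set.mem_toFinset, adj_iff hb hc hk hl hkl hsum]
    rfl
  · obtain ⟨g, rfl, rfl⟩ := (adj_iff hb hc hk hl hkl hsum).1 h
    exact hmove g a b
  · rcases trichotomy hb hc hk hl hkl hsum x y with e | e | ⟨g, rfl, rfl⟩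
    · exact absurd e hne.symm
    · exact absurd ((adj_iff hb hc hk hl hkl hsum).2 e) h
    · exact hmove g a c

end Cfsg.Agent.RankThreeUniq
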