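import Cfsg.Agent.Lib.RankThreeUniq.Orbital
import Cfsg.Agent.S0428
import Cfsg.Agent.Lib.Steiner.SRG100
import Cfsg.Agent.Lib.Leech.HSGraph
import Cfsg.Agent.Lib.Leech.SporGroups
import Cfsg.Agent.Lib.Golay.Mathieu
import Mathlib.LinearAlgebra.Matrix.SchurComplement
import Mathlib.LinearAlgebra.Matrix.Charpoly.Coeff

/-!
A rank three group on 100 points with subdegrees 22, 77 and point stabiliser of the order of M22 is HS.
-/

set_option autoImplicit false

namespace Cfsg.Agent.RankThreeUniq

open Matrix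
open Cfsg Cfsg.Agent.Leech

variable {V : Type*} [Fintype V] [DecidableEq V]

/-- The all-one matrix. -/
def allOne (V : Type*) (p : ℕ) : Matrix V V (ZMod p) := Matrix.of fun _ _ => 1

theorem allOne_sq (p : ℕ) : allOne V p * allOne V p = (Fintype.card V : ZMod p) • allOne V p := by
  ext i j
  simp [allOne, Matrix.mul_apply]

theorem srg_identities {Γ : SimpleGraph V} [DecidableRel Γ.Adj] {n k ℓ μ : ℕ} (h : Γ.IsSRGWith n k ℓ μ) (p : ℕ) :
    Γ.adjMatrix (ZMod p) * Γ.adjMatrix (ZMod p) + (μ : ZMod p) • 1 + (μ : ZMod p) • Γ.adjMatrix (ZMod p) =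
      (k : ZMod p) • 1 + (ℓ : ZMod p) • Γ.adjMatrix (ZMod p) + (μ : ZMod p) • allOne V p ∧
    Γ.adjMatrix (ZMod p) * allOne V p = (k : ZMod p) • allOne V p ∧
    allOne V p * Γ.adjMatrix (ZMod p) = (k : ZMod p) • allOne V p ∧
    (Γ.adjMatrix (ZMod p)).trace = 0 := by
  refine ⟨?_, ?_, ?_, SimpleGraph.trace_adjMatrix _ _⟩
  · have hm := h.matrix_eq (α := ZMod p)
    have hJ : (1 : Matrix V V (ZMod p)) + Γ.adjMatrix (ZMod p) + Γᶜ.adjMatrix (ZMod p) = allOne V p := by
      ext i j
      simp only [Matrix.add_apply, allOne, Matrix.of_apply, SimpleGraph.adjMatrix_apply, SimpleGraph.compl_adj]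
      by_cases hij : i = j
      · subst hij; simp
      · by_cases ha : Γ.Adj i j <;> simp [hij, ha]
    rw [sq] at hm
    rw [hm, ← hJ]
    simp only [Nat.cast_smul_eq_nsmul, smul_add]
    abel
  · ext i j
    simp [allOne, h.regular.degree_eq i]
  · ext i j
    simp [allOne, h.regular.degree_eq j]

theorem srg_hundred {Γ : SimpleGraph V} [DecidableRel Γ.Adj] {ℓ μ : ℕ} (h : Γ.IsSRGWith 100 22 ℓ μ) :
    ℓ = 0 ∧ μ = 6 := by
  have hp := h.param_eq Γ (by norm_num)
  have hcard := h.card
  have hcases : (ℓ = 0 ∧ μ = 6) ∨ (ℓ = 7 ∧ μ = 4) ∨ (ℓ = 14 ∧ μ = 2) ∨ (21 ≤ ℓ ∧ μ = 0) := by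
    rcases Nat.lt_or_ge ℓ 21 with hl | hl
    · interval_cases ℓ <;> omega
    · omega
  rcases hcases with h' | ⟨rfl, rfl⟩ | ⟨rfl, rfl⟩ | ⟨hl, rfl⟩
  · exact h'
  · exfalso
    obtain ⟨e1, e2, e3, e4⟩ := srg_identities h 3
    set A := Γ.adjMatrix (ZMod 3)
    rw [show ((22 : ℕ) : ZMod 3) = 1 from rfl, show ((4 : ℕ) : ZMod 3) = 1 from rfl,
      show ((7 : ℕ) : ZMod 3) = 1 from rfl, one_smul, one_smul, one_smul] at e1
    rw [show ((22 : ℕ) : ZMod 3) = 1 from rfl, one_smul] at e2 e3
    have hA : A * A = allOne V 3 := by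
      have : A * A + ((1 : Matrix V V (ZMod 3)) + A) = allOne V 3 + (1 + A) := by rw [← add_assoc, e1]; abel
      exact add_right_cancel this
    have hJ : allOne V 3 * allOne V 3 = allOne V 3 := by
      rw [allOne_sq, hcard, show ((100 : ℕ) : ZMod 3) = 1 from rfl, one_smul]
    have hN : IsNilpotent (A - allOne V 3) := ⟨2, by rw [sq, sub_mul, mul_sub, mul_sub, hA, hJ, e2, e3]; abel⟩
    have ht := (Matrix.isNilpotent_trace_of_isNilpotent hN).eq_zero
    rw [Matrix.trace_sub, e4, Matrix.trace, show (allOne V 3).diag = fun _ => 1 from rfl] at ht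
    simp [hcard] at ht
    exact absurd ht (by decide)
  · exfalso
    obtain ⟨e1, e2, e3, -⟩ := srg_identities h 3
    set A := Γ.adjMatrix (ZMod 3)
    rw [show ((22 : ℕ) : ZMod 3) = 1 from rfl, show ((2 : ℕ) : ZMod 3) = 2 from rfl,
      show ((14 : ℕ) : ZMod 3) = 2 from rfl, one_smul] at e1
    have hA : A * A = (2 : ZMod 3) • ((1 : Matrix V V (ZMod 3)) + allOne V 3) := by
      ext i j
      have := congrFun (congrFun e1 i) j
      simp only [Matrix.add_apply, Matrix.smul_apply, smul_eq_mul] at this ⊢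
      revert this
      generalize (A * A) i j = x
      generalize (1 : Matrix V V (ZMod 3)) i j = y
      generalize A i j = z
      generalize allOne V 3 i j = w
      revert x y z w
      decide
    have hdet := congrArg Matrix.det hA
    rw [Matrix.det_mul, Matrix.det_smul, hcard,
      show allOne V 3 = Matrix.replicateCol Unit (fun _ : V => (1 : ZMod 3)) * Matrix.replicateRow Unit (fun _ : V => (1 : ZMod 3)) from by
        ext i j; simp [allOne, Matrix.mul_apply],
      Matrix.det_one_add_replicateCol_mul_replicateRow] at hdet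
    simp [dotProduct, hcard] at hdet
    revert hdet
    generalize A.det = d
    revert d
    decide +kernel
  · exfalso
    have hl21 : ℓ = 21 := by
      by_contra hne
      obtain ⟨x⟩ : Nonempty V := Fintype.card_pos_iff.1 (by omega)
      obtain ⟨y, hy⟩ : ∃ y, Γ.Adj x y := by
        have := h.regular.degree_eq x
        obtain ⟨y, hy⟩ := Finset.card_pos.1 (show 0 < (Γ.neighborFinset x).card by
          rw [Γ.card_neighborFinset_eq_degree, this]; norm_num)
        exact ⟨y, (Γ.mem_neighborFinset x y).1 hy⟩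
      have h1 := hy.card_commonNeighbors_lt_degree
      rw [h.of_adj x y hy, h.regular.degree_eq x] at h1
      omega
    subst hl21
    obtain ⟨e1, -, -, e4⟩ := srg_identities h 23
    set A := Γ.adjMatrix (ZMod 23)
    rw [Nat.cast_zero, zero_smul, zero_smul, zero_smul, add_zero, add_zero, add_zero] at e1
    have hN : IsNilpotent (A + 1) := ⟨2, by
      rw [sq, add_mul, mul_add, mul_one, one_mul, e1]
      ext i j
      simp only [Matrix.add_apply, Matrix.smul_apply, smul_eq_mul, Matrix.zero_apply]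
      generalize A i j = x
      generalize (1 : Matrix V V (ZMod 23)) i j = y
      revert x y
      decide⟩
    have : Fact (Nat.Prime 23) := ⟨by norm_num⟩
    have ht := (Matrix.isNilpotent_trace_of_isNilpotent hN).eq_zero
    rw [Matrix.trace_add, e4, Matrix.trace_one, hcard, zero_add] at ht
    have h100 : ((100 : ℕ) : ZMod 23) ≠ 0 := by decide +kernel +revert
    exact h100 ht

theorem nonempty_hsSub_spor : Nonempty (↥Cfsg.Agent.Leech.hsSub ≃* ↥Cfsg.Spor.HS) := by
  have hv : ip (-(Spor.leechV + Spor.leechU')) (-(Spor.leechV + Spor.leechU')) = 6 := by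
    refine (ip_self_iff (n := 6)).2 ?_
    show ∑ i, (-(Spor.vecV i + Spor.vecU' i)) ^ 2 = 48
    decide
  have hvw : ip Spor.leechV (-(Spor.leechV + Spor.leechU')) = -4 := by
    refine ip_eq_of_dot ?_
    show ∑ i, Spor.vecV i * -(Spor.vecV i + Spor.vecU' i) = _
    decide
  obtain ⟨g, g1, g2⟩ := (exists_hs_std ip_leechV hv hvw).1
  refine ⟨(stabPairEquiv g1 g2).symm.trans (inCo0Equiv _ _ (fun g => ?_) (inf_le_left.trans inf_le_left))⟩
  constructor
  · rintro ⟨hV, hw⟩
    have hV' : g • Spor.leechV = Spor.leechV := hV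
    have hw' : g • -(Spor.leechV + Spor.leechU') = -(Spor.leechV + Spor.leechU') := hw
    rw [co0_neg, co0_add, hV'] at hw'
    exact ⟨⟨g.2, hV⟩, add_left_cancel (neg_injective hw')⟩
  · rintro ⟨⟨-, hV⟩, hU⟩
    have hV' : g • Spor.leechV = Spor.leechV := hV
    have hU' : g • Spor.leechU' = Spor.leechU' := hU
    refine ⟨hV, ?_⟩
    show g • -(Spor.leechV + Spor.leechU') = -(Spor.leechV + Spor.leechU')
    rw [co0_neg, co0_add, hU', hV']

theorem isoHS_of_rank_three {Ω : Type*} [Fintype Ω] [DecidableEq Ω] (hΩ : Fintype.card Ω = 100)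
    (G : Subgroup (Equiv.Perm Ω)) [MulAction.IsPretransitive G Ω] (a : Ω)
    (hG : Nat.card (MulAction.stabilizer G a) = 443520) (b c : Ω)
    (hb : (MulAction.orbit (MulAction.stabilizer G a) b).ncard = 22)
    (hc : (MulAction.orbit (MulAction.stabilizer G a) c).ncard = 77) : Cfsg.Spor.IsoHS G := by
  classical
  have hS := isSRG hb hc (by norm_num) (by norm_num) (by norm_num) (by rw [hΩ])
  rw [hΩ] at hS
  obtain ⟨e1, e2⟩ := srg_hundred hS
  rw [e1, e2] at hS
  obtain ⟨φ⟩ := Cfsg.Agent.SRG100.iso100 hS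
    (S0428.result (α := Cfsg.Agent.Steiner.Pt22) (by simp [Cfsg.Agent.Steiner.Pt22]) Cfsg.Agent.Steiner.isSteiner_std22)
  set K := Cfsg.pointBlockGraph Cfsg.Agent.Steiner.std22
  let f : G →* (K ≃g K) :=
    { toFun := fun g =>
        φ.symm.trans ((⟨(g : Equiv.Perm Ω), fun {x y} => adj_smul g⟩ : graph G a b ≃g graph G a b).trans φ)
      map_one' := RelIso.ext fun v => by
        show φ (φ.symm v) = v
        exact φ.apply_symm_apply v
      map_mul' := fun g h => RelIso.ext fun v => by
        show φ ((g : Equiv.Perm Ω) ((h : Equiv.Perm Ω) (φ.symm v))) =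
          φ ((g : Equiv.Perm Ω) (φ.symm (φ ((h : Equiv.Perm Ω) (φ.symm v)))))
        rw [φ.symm_apply_apply] }
  have hf : Function.Injective f := fun g h e => Subtype.ext (Equiv.ext fun x => φ.injective (by
    have := congrArg (fun F : K ≃g K => F (φ x)) e
    change φ ((g : Equiv.Perm Ω) (φ.symm (φ x))) = φ ((h : Equiv.Perm Ω) (φ.symm (φ x))) at this
    rwa [φ.symm_apply_apply] at this))
  have hcard : Nat.card G = 44352000 := by
    rw [← Subgroup.card_mul_index (MulAction.stabilizer G a), MulAction.index_stabilizer_of_transitive G a,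
      hG, Nat.card_eq_fintype_card, hΩ]
  have hI : Nat.card Cfsg.Agent.HSGraph.actHom.range = 44352000 :=
    (Nat.card_congr (MonoidHom.ofInjective Cfsg.Agent.HSGraph.actHom_injective).toEquiv).symm.trans
      Cfsg.Agent.Leech.card_hsSub
  have hR : Nat.card f.range = 44352000 :=
    (Nat.card_congr (MonoidHom.ofInjective hf).toEquiv).symm.trans hcard
  have hA := Cfsg.Agent.HSGraph.card_aut_std
  have : Finite (K ≃g K) := Nat.finite_of_card_ne_zero (by rw [hA]; norm_num)
  have hRi : f.range.index = 2 := by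
    have h := Subgroup.card_mul_index f.range
    rw [hR, hA] at h
    omega
  have := Subgroup.normal_of_index_eq_two hRi
  have hsimp : IsSimpleGroup Cfsg.Agent.HSGraph.actHom.range :=
    haveI := Cfsg.Agent.Leech.isSimpleGroup_hsSub Cfsg.Agent.Leech.card_hsSub
    Cfsg.Agent.SimpleCriteria.isSimpleGroup_congr (MonoidHom.ofInjective Cfsg.Agent.HSGraph.actHom_injective)
  have heq : Cfsg.Agent.HSGraph.actHom.range = f.range := by
    rcases (inferInstance : (f.range.subgroupOf Cfsg.Agent.HSGraph.actHom.range).Normal).eq_bot_or_eq_top with hb | ht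
    · exfalso
      have h1 := Subgroup.relIndex_dvd_index_of_normal f.range Cfsg.Agent.HSGraph.actHom.range
      rw [Subgroup.relIndex, hb, Subgroup.index_bot, hI, hRi] at h1
      norm_num at h1
    · refine Subgroup.eq_of_le_of_card_ge (Subgroup.subgroupOf_eq_top.1 ht) (le_of_eq ?_)
      rw [hR, hI]
  obtain ⟨ι⟩ := nonempty_hsSub_spor
  exact ⟨((MonoidHom.ofInjective hf).trans (MulEquiv.subgroupCongr heq.symm)).trans
    ((MonoidHom.ofInjective Cfsg.Agent.HSGraph.actHom_injective).symm.trans ι)⟩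

end Cfsg.Agent.RankThreeUniq
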